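import Groth.Agent.Lib.AlgSpLimit.SchemeStage
import Groth.Agent.Lib.AlgSpLimit.ClosedLim
import Groth.Agent.Lib.AlgSpLimit.ClosedTransitions
import Groth.Agent.Lib.AlgSpLimit.Stage
import Groth.Agent.Lib.AlgSpace.Local

/-! # Minimal non-scheme closed subspaces -/

set_option autoImplicit false
set_option linter.style.haveILetI false
set_option backward.isDefEq.respectTransparency false
set_option backward.isDefEq.respectTransparency.types false

universe u

open CategoryTheory CategoryTheory.Limits AlgebraicGeometry Opposite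
open AlgSp Groth.Agent.Lib

namespace Groth.Agent.H8.MinNonScheme.Basic

variable {S : Scheme.{u}}

/-- A ring map factors through a surjection. -/
theorem exists_ringHom_factor {A B B' : CommRingCat.{u}} (f : A ⟶ B) (f' : A ⟶ B')
    (hs : Function.Surjective f.hom) (h : RingHom.ker f.hom ≤ RingHom.ker f'.hom) :
    ∃ φ : B ⟶ B', f ≫ φ = f' :=
  ⟨CommRingCat.ofHom (f.hom.liftOfRightInverse (Function.surjInv hs)
      (Function.rightInverse_surjInv hs) ⟨f'.hom, h⟩),
    CommRingCat.hom_ext (f.hom.liftOfRightInverse_comp _ _ ⟨f'.hom, h⟩)⟩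

/-- Closed immersions into an affine scheme factor by comparing kernels. -/
theorem exists_lift_of_ker_le_aux {U V V' : Scheme.{u}} [IsAffine U] [IsAffine V] [IsAffine V']
    (g : V ⟶ U) (g' : V' ⟶ U) [IsClosedImmersion g]
    (h : RingHom.ker g.appTop.hom ≤ RingHom.ker g'.appTop.hom) :
    ∃ l : V' ⟶ V, l ≫ g = g' := by
  obtain ⟨φ, hφ⟩ := exists_ringHom_factor g.appTop g'.appTop
    (g.app_surjective ⊤ (isAffineOpen_top _)) h
  refine ⟨V'.isoSpec.hom ≫ Spec.map φ ≫ V.isoSpec.inv, ?_⟩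
  rw [Category.assoc, Category.assoc, ← Scheme.isoSpec_inv_naturality, ← Spec.map_comp_assoc, hφ,
    Scheme.isoSpec_inv_naturality, Iso.hom_inv_id_assoc]

/-- Closed immersions over `S` into an affine scheme factor by comparing kernels. -/
theorem exists_lift_of_ker_le {U V V' : Over S} [IsAffine U.left] (g : V ⟶ U) (g' : V' ⟶ U)
    [IsClosedImmersion g.left] [IsClosedImmersion g'.left]
    (h : RingHom.ker g.left.appTop.hom ≤ RingHom.ker g'.left.appTop.hom) :
    ∃ l : V' ⟶ V, l ≫ g = g' := by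
  haveI : IsAffine V.left := isAffine_of_isAffineHom g.left
  haveI : IsAffine V'.left := isAffine_of_isAffineHom g'.left
  obtain ⟨l, hl⟩ := exists_lift_of_ker_le_aux g.left g'.left h
  exact ⟨Over.homMk l (by rw [← Over.w g, ← Category.assoc, hl, Over.w g']),
    Over.OverMorphism.ext hl⟩

/-- Kernels grow along factorisations. -/
theorem ker_le_of_comp {U V V' : Over S} (m : V' ⟶ V) (g : V ⟶ U) (g' : V' ⟶ U) (e : m ≫ g = g') :
    RingHom.ker g.left.appTop.hom ≤ RingHom.ker g'.left.appTop.hom := by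
  subst e
  intro x hx
  rw [RingHom.mem_ker] at hx ⊢
  rw [Over.comp_left, Scheme.Hom.comp_appTop, CommRingCat.hom_comp, RingHom.comp_apply, hx, map_zero]

section Factor

variable {X Z Z' : Sp S} {i : Z ⟶ X} {i' : Z' ⟶ X} {U V V' : Over S} [IsAffine U.left]
  {p : (yon S).obj U ⟶ X} (hp : RepWith @Etale p) (hps : RepWith @Surjective p)
  (hi : RepWith @IsClosedImmersion i) (hi' : RepWith @IsClosedImmersion i')
  {g : V ⟶ U} {fst : (yon S).obj V ⟶ Z} (sq : IsPullback fst ((yon S).map g) i p)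
  {g' : V' ⟶ U} {fst' : (yon S).obj V' ⟶ Z'} (sq' : IsPullback fst' ((yon S).map g') i' p)

include hp hps hi hi' sq sq' in
/-- Closed subspaces factor when their ideals on an affine atlas are comparable. -/
theorem exists_factor
    (h : RingHom.ker g.left.appTop.hom ≤ RingHom.ker g'.left.appTop.hom) :
    ∃ l : Z' ⟶ Z, l ≫ i = i' := by
  haveI : Mono i := AlgSpLimit.mono_of_closedImm hi
  haveI : IsClosedImmersion g.left := AlgSpace.repWith_property hi sq
  haveI : IsClosedImmersion g'.left := AlgSpace.repWith_property hi' sq'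
  obtain ⟨m, hm⟩ := exists_lift_of_ker_le g g' h
  haveI := AlgSpace.isLocallySurjective_of_etale (AlgSpace.repWith_baseChange sq'.flip hp)
    (AlgSpace.repWith_baseChange sq'.flip hps)
  have hk : ((yon S).map m ≫ fst) ≫ i = fst' ≫ i' := by
    rw [Category.assoc, sq.w, ← Functor.map_comp_assoc, hm, sq'.w]
  have sqk := IsPullback.of_hasPullback fst' fst'
  obtain ⟨l, hl⟩ := AlgSpace.exists_desc fst' sqk ((yon S).map m ≫ fst) (by
    rw [← cancel_mono i, Category.assoc, hk, Category.assoc, hk, ← Category.assoc, sqk.w,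
      Category.assoc])
  haveI : Epi fst' := (Sheaf.isLocallySurjective_iff_epi' (Type (u + 1)) fst').1 inferInstance
  exact ⟨l, by rw [← cancel_epi fst', ← Category.assoc, hl, hk]⟩

end Factor

/-- A closed immersion over which a closed immersion factors. -/
theorem closedImm_of_comp {X Z Z' : Sp S} {i : Z ⟶ X} {i' : Z' ⟶ X}
    (hi : RepWith @IsClosedImmersion i) (hi' : RepWith @IsClosedImmersion i') {l : Z' ⟶ Z}
    (hl : l ≫ i = i') : RepWith @IsClosedImmersion l := by
  haveI : Mono i := AlgSpLimit.mono_of_closedImm hi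
  exact AlgSpace.repWith_baseChange (IsPullback.of_horiz_isIso_mono (fst := 𝟙 Z') (snd := l)
    (f := i') (g := i) ⟨by simp [hl]⟩) hi'

set_option maxHeartbeats 800000 in
/-- Existence of a minimal closed subspace which is not a scheme. -/
theorem exists_minimal [QuasiSeparatedSpace ↥S] {X : Sp S} (hX : IsAlgSpace X)
    (hqc : IsQuasiCompactSp X) (hqs : IsQuasiSeparatedSp X) (hnX : ¬ X.obj.IsRepresentable) :
    ∃ (Z : Sp S) (i : Z ⟶ X), IsAlgSpace Z ∧ RepWith @IsClosedImmersion i ∧
      ¬ Z.obj.IsRepresentable ∧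
      ∀ (Z' : Sp S) (i' : Z' ⟶ Z), RepWith @IsClosedImmersion i' → ¬ IsIso i' →
        Z'.obj.IsRepresentable := by
  haveI := AlgSpMor.QC.compactSpace_points hqc
  obtain ⟨U, p, hU, hp, hps⟩ := AlgSpMor.QC.exists_affine_atlas hX
  haveI := hU
  let s : Set (Ideal Γ(U.left, ⊤)) := {I | ∃ (Z : Sp S) (i : Z ⟶ X) (V : Over S) (g : V ⟶ U)
    (fst : (yon S).obj V ⟶ Z), RepWith @IsClosedImmersion i ∧ ¬ Z.obj.IsRepresentable ∧
      IsPullback fst ((yon S).map g) i p ∧ RingHom.ker g.left.appTop.hom = I}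
  have mem : ∀ {Z : Sp S} (i : Z ⟶ X) (hi : RepWith @IsClosedImmersion i),
      ¬ Z.obj.IsRepresentable → RingHom.ker (hi.rep.snd p).left.appTop.hom ∈ s :=
    fun i hi hn => ⟨_, i, _, _, _, hi, hn, hi.rep.isPullback p, rfl⟩
  obtain ⟨I, -, hI⟩ := zorn_le_nonempty₀ s (fun C hC hchain I₀ hI₀ => by
    choose Z i V g fst hi hn sq hker using fun I : C => hC I.2
    have hle : ∀ a b : C, a.1 ≤ b.1 → ∃ l : Z b ⟶ Z a, l ≫ i a = i b := fun a b hab =>
      exists_factor hp hps (hi a) (hi b) (sq a) (sq b) (by rw [hker, hker]; exact hab)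
    choose l hl using hle
    haveI : ∀ a, Mono (i a) := fun a => AlgSpLimit.mono_of_closedImm (hi a)
    haveI : Nonempty C := ⟨⟨I₀, hI₀⟩⟩
    haveI : IsDirectedOrder C := ⟨fun a b => by
      rcases hchain.total a.2 b.2 with h | h
      · exact ⟨b, h, le_rfl⟩
      · exact ⟨a, le_rfl, h⟩⟩
    haveI : IsFiltered C := isFiltered_of_directed_le_nonempty C
    let D : (↥C)ᵒᵖ ⥤ Sp S :=
      { obj := fun a => Z a.unop
        map := fun {a b} f => l b.unop a.unop f.unop.le
        map_id := fun a => by rw [← cancel_mono (i a.unop), hl, Category.id_comp]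
        map_comp := fun {a b c} f f' => by
          rw [← cancel_mono (i c.unop), hl, Category.assoc, hl, hl] }
    have hqcs : ∀ a : (↥C)ᵒᵖ, IsAlgSpace (D.obj a) ∧ IsQuasiCompactSp (D.obj a) ∧
        IsQuasiSeparatedSp (D.obj a) := fun a =>
      AlgSpLimit.qcqs_of_affine hX (AlgSpLimit.isAffineMor_of_closedImm (hi a.unop)) hqc hqs
    have hDa : ∀ (a b : (↥C)ᵒᵖ) (f : a ⟶ b), IsAffineMor (D.map f) := fun a b f =>
      AlgSpLimit.isAffineMor_of_closedImm
        (closedImm_of_comp (hi b.unop) (hi a.unop) (hl b.unop a.unop f.unop.le))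
    haveI : IsConnected (↥C)ᵒᵖ := IsCofiltered.isConnected _
    let cD := limit.cone D
    let τ : D ⟶ (Functor.const (↥C)ᵒᵖ).obj X :=
      { app := fun a => i a.unop
        naturality := fun a b f => by simp [D, hl] }
    let a₀ : (↥C)ᵒᵖ := op ⟨I₀, hI₀⟩
    let g₀ : cD.pt ⟶ X := cD.π.app a₀ ≫ i a₀.unop
    have hg₀ : ∀ a, cD.π.app a ≫ i a.unop = g₀ := fun a => by
      obtain ⟨b, f, f', -⟩ := IsCofilteredOrEmpty.cone_objs a a₀
      simp only [g₀]
      rw [← cD.w f, ← cD.w f', Category.assoc, Category.assoc]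
      congr 1
      exact (τ.naturality f).trans (τ.naturality f').symm
    have hg : RepWith @IsClosedImmersion g₀ := AlgSpLimit.closedImmersion_lim τ
      (fun a => hi a.unop) (limit.isLimit D) (isLimitConstCone (↥C)ᵒᵖ X) g₀
      fun a => (Category.comp_id _).trans (hg₀ a).symm
    refine ⟨_, mem g₀ hg fun hr => ?_, fun J hJ => ?_⟩
    · obtain ⟨T, ⟨hT⟩⟩ := hr.has_representation
      obtain ⟨a, M, ⟨e⟩⟩ := AlgSpLimit.exists_scheme_stage_of_scheme (fun a => (hqcs a).1) hDa
        (limit.isLimit D) (fun a => (hqcs a).2.1) (fun a => (hqcs a).2.2)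
        (AlgSp.isoOfRepresentableBy hT)
      exact hn a.unop (AlgSp.representableByOfIso e).isRepresentable
    · let a : (↥C)ᵒᵖ := op ⟨J, hJ⟩
      obtain ⟨m, hm⟩ := (yon S).map_surjective ((sq a.unop).lift
        (hg.rep.fst p ≫ cD.π.app a) ((yon S).map (hg.rep.snd p))
        (by rw [Category.assoc, hg₀]; exact hg.rep.w p))
      have e : m ≫ g a.unop = hg.rep.snd p :=
        (yon S).map_injective (by rw [Functor.map_comp, hm, IsPullback.lift_snd])
      exact (hker a.unop).ge.trans (ker_le_of_comp m (g a.unop) _ e)) _ (mem (𝟙 X) (AlgSpace.repWith_of_isIso _ _) hnX)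
  obtain ⟨Z, i, V, g, fst, hi, hn, sq, hker⟩ := hI.1
  refine ⟨Z, i, AlgSpace.isAlgSpace_of_representable hi.rep hX, hi, hn, fun Z' i' hi' hiso => ?_⟩
  by_contra hn'
  have hc : RepWith @IsClosedImmersion (i' ≫ i) := AlgSpace.repWith_comp hi' hi
  have sq' := hc.rep.isPullback p
  obtain ⟨m, hm⟩ := (yon S).map_surjective (sq.lift (hc.rep.fst p ≫ i')
    ((yon S).map (hc.rep.snd p)) (by rw [Category.assoc]; exact hc.rep.w p))
  have e : m ≫ g = hc.rep.snd p :=
    (yon S).map_injective (by rw [Functor.map_comp, hm, IsPullback.lift_snd])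
  have hle : I ≤ RingHom.ker (hc.rep.snd p).left.appTop.hom :=
    hker.ge.trans (ker_le_of_comp m g _ e)
  obtain ⟨l, hl⟩ := exists_factor hp hps hc hi sq' sq ((hI.2 (mem _ hc hn') hle).trans hker.ge)
  haveI : Mono i := AlgSpLimit.mono_of_closedImm hi
  haveI : Mono i' := AlgSpLimit.mono_of_closedImm hi'
  have h2 : l ≫ i' = 𝟙 Z := by rw [← cancel_mono i, Category.assoc, hl, Category.id_comp]
  exact hiso ⟨l, by rw [← cancel_mono i', Category.assoc, h2, Category.comp_id, Category.id_comp], h2⟩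

end Groth.Agent.H8.MinNonScheme.Basic
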